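import Mathlib

/-!
# Cycle counts of a permutation and the fixed points of its powers

`exists_cnt`: for a permutation `g` with `orderOf g = N` there are numbers `c k` (the number of `k`-cycles) with
`|supp (g ^ d)| = ∑_{k ∣ N, k ∤ d} k c_k` and `sign g = (-1) ^ ∑_{k ∣ N} (k + 1) c_k`.
-/

set_option autoImplicit false

namespace Cfsg.Agent.H19.Cyc

open Equiv Equiv.Perm

variable {α : Type*} [Fintype α] [DecidableEq α]

theorem support_pow_card (g : Perm α) (d : ℕ) :
    (g ^ d).support.card = (g.cycleType.filter fun k => ¬ k ∣ d).sum := by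
  induction g using Equiv.Perm.cycle_induction_on with
  | base_one => simp
  | base_cycles σ hσ =>
    rw [hσ.cycleType]
    by_cases h : orderOf σ ∣ d
    · have h1 : σ ^ d = 1 := orderOf_dvd_iff_pow_eq_one.1 h
      have h2 : σ.support.card ∣ d := by rw [← hσ.orderOf]; exact h
      rw [h1, support_one, Finset.card_empty]
      rw [Multiset.filter_singleton]
      simp [h2]
    · have h1 : (σ ^ d).support = σ.support := (hσ.support_pow_eq_iff).2 h
      have h2 : ¬ σ.support.card ∣ d := by rw [← hσ.orderOf]; exact h
      rw [h1, Multiset.filter_singleton]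
      simp [h2]
  | induction_disjoint σ τ hd hσ ih1 ih2 =>
    rw [hd.commute.mul_pow, (hd.pow_disjoint_pow d d).card_support_mul, hd.cycleType_mul, Multiset.filter_add,
      Multiset.sum_add, ih1, ih2]

theorem exists_cnt (g : Perm α) : ∃ c : ℕ → ℕ, c 1 = 0 ∧
    (∀ d, (g ^ d).support.card = ∑ k ∈ (orderOf g).divisors, if k ∣ d then 0 else k * c k) ∧
    Equiv.Perm.sign g = (-1) ^ (∑ k ∈ (orderOf g).divisors, (k + 1) * c k) := by
  refine ⟨fun k => g.cycleType.count k, ?_, ?_, ?_⟩
  · exact Multiset.count_eq_zero_of_notMem fun h => by have := one_lt_of_mem_cycleType h; omega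
  · intro d
    rw [support_pow_card]
    have hsub : (g.cycleType.filter fun k => ¬ k ∣ d).toFinset ⊆ (orderOf g).divisors := by
      intro k hk
      rw [Multiset.mem_toFinset, Multiset.mem_filter] at hk
      rw [Nat.mem_divisors]
      exact ⟨dvd_of_mem_cycleType hk.1, (orderOf_pos g).ne'⟩
    rw [Finset.sum_multiset_count_of_subset _ _ hsub]
    refine Finset.sum_congr rfl fun k _ => ?_
    by_cases h : k ∣ d
    · rw [if_pos h, Multiset.count_filter_of_neg (p := fun k => ¬ k ∣ d) (fun hn => hn h), zero_smul]
    · rw [if_neg h, Multiset.count_filter_of_pos (p := fun k => ¬ k ∣ d) h, smul_eq_mul, mul_comm]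
  · rw [sign_of_cycleType]
    congr 1
    have hsub : g.cycleType.toFinset ⊆ (orderOf g).divisors := by
      intro k hk
      rw [Multiset.mem_toFinset] at hk
      rw [Nat.mem_divisors]
      exact ⟨dvd_of_mem_cycleType hk, (orderOf_pos g).ne'⟩
    rw [Finset.sum_multiset_count_of_subset _ _ hsub]
    have hcard : g.cycleType.card = ∑ k ∈ (orderOf g).divisors, g.cycleType.count k := by
      symm
      rw [← Multiset.toFinset_sum_count_eq]
      symm
      exact Finset.sum_subset hsub fun k _ hk => Multiset.count_eq_zero_of_notMem fun h => hk (Multiset.mem_toFinset.2 h)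
    rw [hcard, ← Finset.sum_add_distrib]
    refine Finset.sum_congr rfl fun k _ => ?_
    rw [smul_eq_mul]
    ring

end Cfsg.Agent.H19.Cyc
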