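import Cfsg.Agent.H19.Cyc.CycCount
import Cfsg.Agent.H180.MElFix
import Cfsg.Agent.H867.OctadSix
import Cfsg.Agent.H865.Invol
import Cfsg.Agent.S0365
import Cfsg.Agent.SporadicA.OctadFix
import Cfsg.Agent.H359.NoNine

/-!
# The orders of the elements of `M₂₄`, first part: counting cycles

`base`: cycle counts of an element of `M₂₄` of order `N`; `no_*`: orders which do not occur.
-/

set_option autoImplicit false

namespace Cfsg.Agent.H19.Cyc

open Cfsg Equiv Equiv.Perm
open scoped Pointwise
open Cfsg.Agent.H866.InvolType (fx)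
open Cfsg.Agent.H180.MEl (Fx mem_Fx fx2 fx3 fx5 fx7 fx11 fx23 fact24)

theorem card_pt : Fintype.card GolayPt = 24 := by decide +kernel

theorem fx_add (x : Perm GolayPt) : fx x + x.support.card = 24 := by
  have h : (Finset.univ.filter fun p => x p = p) = x.supportᶜ := by
    ext p
    rw [Finset.mem_filter, Finset.mem_compl, mem_support, not_not]
    exact and_iff_right (Finset.mem_univ _)
  unfold fx
  rw [h, Finset.card_compl, card_pt]
  have := x.support.card_le_univ
  rw [card_pt] at this
  omega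

theorem sign_m24 (g : M24) : sign (g : Perm GolayPt) = 1 := by
  have hs : IsSimpleGroup M24 := Cfsg.Agent.S0365.result
  have hnc : ¬ ∀ a b : M24, a * b = b * a := by
    intro hc
    let K : CommGroup M24 := { (inferInstance : Group M24) with mul_comm := hc }
    have h2 : (Nat.card M24).Prime := @IsSimpleGroup.prime_card M24 K hs
    rw [fact24] at h2
    norm_num at h2
  let f : M24 →* ℤˣ := sign.comp M24.subtype
  rcases (MonoidHom.normal_ker f).eq_bot_or_eq_top with h | h
  · exfalso
    apply hnc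
    intro a b
    have h1 : a * b * (b * a)⁻¹ ∈ f.ker := by
      rw [MonoidHom.mem_ker, map_mul, map_inv, map_mul, map_mul, mul_comm (f a) (f b), mul_inv_cancel]
    rw [h, Subgroup.mem_bot, mul_inv_eq_one] at h1
    exact h1
  · have h1 : g ∈ f.ker := by rw [h]; exact Subgroup.mem_top g
    exact h1

/-- cycle counts of an element of order `N` -/
theorem base (g : M24) {N : ℕ} (h : orderOf g = N) : ∃ c : ℕ → ℕ, c 1 = 0 ∧
    (∀ d, fx ((g : Perm GolayPt) ^ d) + (∑ k ∈ N.divisors, if k ∣ d then 0 else k * c k) = 24) ∧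
    (∑ k ∈ N.divisors, (k + 1) * c k) % 2 = 0 := by
  obtain ⟨c, h1, h2, h3⟩ := exists_cnt (g : Perm GolayPt)
  rw [Subgroup.orderOf_coe, h] at h2 h3
  refine ⟨c, h1, fun d => ?_, ?_⟩
  · rw [← h2 d]
    exact fx_add _
  · rw [sign_m24] at h3
    by_contra h4
    have h5 : Odd (∑ k ∈ N.divisors, (k + 1) * c k) := Nat.odd_iff.2 (by omega)
    rw [h5.neg_one_pow] at h3
    exact absurd h3 (by decide)

theorem ord_pow {g : M24} {N d q : ℕ} (h : orderOf g = N) (hN : N = q * d) (hd : 0 < d) :
    orderOf ((g : Perm GolayPt) ^ d) = q := by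
  rw [orderOf_pow_of_dvd hd.ne' (by rw [Subgroup.orderOf_coe, h, hN]; exact dvd_mul_left _ _), Subgroup.orderOf_coe, h,
    hN, Nat.mul_div_cancel _ hd]

theorem mem_pow (g : M24) (d : ℕ) : (g : Perm GolayPt) ^ d ∈ M24 := M24.pow_mem g.2 d

theorem v2 {g : M24} {N d : ℕ} (h : orderOf g = N) (hN : N = 2 * d) (hd : 0 < d) :
    fx ((g : Perm GolayPt) ^ d) = 8 ∨ fx ((g : Perm GolayPt) ^ d) = 0 := fx2 (mem_pow g d) (ord_pow h hN hd)
theorem v3 {g : M24} {N d : ℕ} (h : orderOf g = N) (hN : N = 3 * d) (hd : 0 < d) :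
    fx ((g : Perm GolayPt) ^ d) = 6 ∨ fx ((g : Perm GolayPt) ^ d) = 0 := fx3 (mem_pow g d) (ord_pow h hN hd)
theorem v5 {g : M24} {N d : ℕ} (h : orderOf g = N) (hN : N = 5 * d) (hd : 0 < d) :
    fx ((g : Perm GolayPt) ^ d) = 4 := fx5 (mem_pow g d) (ord_pow h hN hd)
theorem v7 {g : M24} {N d : ℕ} (h : orderOf g = N) (hN : N = 7 * d) (hd : 0 < d) :
    fx ((g : Perm GolayPt) ^ d) = 3 := fx7 (mem_pow g d) (ord_pow h hN hd)
theorem v11 {g : M24} {N d : ℕ} (h : orderOf g = N) (hN : N = 11 * d) (hd : 0 < d) :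
    fx ((g : Perm GolayPt) ^ d) = 2 := fx11 (mem_pow g d) (ord_pow h hN hd)
theorem v23 {g : M24} {N d : ℕ} (h : orderOf g = N) (hN : N = 23 * d) (hd : 0 < d) :
    fx ((g : Perm GolayPt) ^ d) = 1 := fx23 (mem_pow g d) (ord_pow h hN hd)

theorem no24 (g : M24) : orderOf g ≠ 24 := by
  intro h
  obtain ⟨c, c1, hc, hp⟩ := base g h
  have e1 := hc 1
  have e2 := hc 12
  have e3 := hc 8
  have w2 := v2 h (d := 12) (by norm_num) (by norm_num)
  have w3 := v3 h (d := 8) (by norm_num) (by norm_num)
  rw [show Nat.divisors 24 = {1, 2, 3, 4, 6, 8, 12, 24} by decide] at e1 e2 e3 hp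
  simp +decide only [Finset.sum_insert, Finset.sum_singleton, Finset.mem_insert, Finset.mem_singleton, if_true, if_false,
    c1] at e1 e2 e3 hp
  omega

theorem no28 (g : M24) : orderOf g ≠ 28 := by
  intro h
  obtain ⟨c, c1, hc, hp⟩ := base g h
  have e0 := hc 1
  have e2 := hc 14
  have e3 := hc 4
  have w2 := v2 h (d := 14) (by norm_num) (by norm_num)
  have w3 := v7 h (d := 4) (by norm_num) (by norm_num)
  rw [show Nat.divisors 28 = {1, 2, 4, 7, 14, 28} by decide] at e0 e2 e3
  simp +decide only [Finset.sum_insert, Finset.sum_singleton, Finset.mem_insert, Finset.mem_singleton, if_true, if_false,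
    c1] at e0 e2 e3
  omega

theorem no30 (g : M24) : orderOf g ≠ 30 := by
  intro h
  obtain ⟨c, c1, hc, hp⟩ := base g h
  have e0 := hc 1
  have e1 := hc 15
  have e2 := hc 10
  have e3 := hc 6
  have w1 := v2 h (d := 15) (by norm_num) (by norm_num)
  have w2 := v3 h (d := 10) (by norm_num) (by norm_num)
  have w3 := v5 h (d := 6) (by norm_num) (by norm_num)
  rw [show Nat.divisors 30 = {1, 2, 3, 5, 6, 10, 15, 30} by decide] at e0 e1 e2 e3
  simp +decide only [Finset.sum_insert, Finset.sum_singleton, Finset.mem_insert, Finset.mem_singleton, if_true, if_false,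
    c1] at e0 e1 e2 e3
  omega

theorem no33 (g : M24) : orderOf g ≠ 33 := by
  intro h
  obtain ⟨c, c1, hc, hp⟩ := base g h
  have e0 := hc 1
  have e2 := hc 11
  have e3 := hc 3
  have w2 := v3 h (d := 11) (by norm_num) (by norm_num)
  have w3 := v11 h (d := 3) (by norm_num) (by norm_num)
  rw [show Nat.divisors 33 = {1, 3, 11, 33} by decide] at e0 e2 e3
  simp +decide only [Finset.sum_insert, Finset.sum_singleton, Finset.mem_insert, Finset.mem_singleton, if_true, if_false,
    c1] at e0 e2 e3
  omega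

theorem no35 (g : M24) : orderOf g ≠ 35 := by
  intro h
  obtain ⟨c, c1, hc, hp⟩ := base g h
  have e0 := hc 1
  have e2 := hc 7
  have e3 := hc 5
  have w2 := v5 h (d := 7) (by norm_num) (by norm_num)
  have w3 := v7 h (d := 5) (by norm_num) (by norm_num)
  rw [show Nat.divisors 35 = {1, 5, 7, 35} by decide] at e0 e2 e3
  simp +decide only [Finset.sum_insert, Finset.sum_singleton, Finset.mem_insert, Finset.mem_singleton, if_true, if_false,
    c1] at e0 e2 e3
  omega

theorem no42 (g : M24) : orderOf g ≠ 42 := by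
  intro h
  obtain ⟨c, c1, hc, hp⟩ := base g h
  have e0 := hc 1
  have e1 := hc 21
  have e2 := hc 14
  have e3 := hc 6
  have w1 := v2 h (d := 21) (by norm_num) (by norm_num)
  have w2 := v3 h (d := 14) (by norm_num) (by norm_num)
  have w3 := v7 h (d := 6) (by norm_num) (by norm_num)
  rw [show Nat.divisors 42 = {1, 2, 3, 6, 7, 14, 21, 42} by decide] at e0 e1 e2 e3
  simp +decide only [Finset.sum_insert, Finset.sum_singleton, Finset.mem_insert, Finset.mem_singleton, if_true, if_false,
    c1] at e0 e1 e2 e3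
  omega

theorem no55 (g : M24) : orderOf g ≠ 55 := by
  intro h
  obtain ⟨c, c1, hc, hp⟩ := base g h
  have e0 := hc 1
  have e2 := hc 11
  have e3 := hc 5
  have w2 := v5 h (d := 11) (by norm_num) (by norm_num)
  have w3 := v11 h (d := 5) (by norm_num) (by norm_num)
  rw [show Nat.divisors 55 = {1, 5, 11, 55} by decide] at e0 e2 e3
  simp +decide only [Finset.sum_insert, Finset.sum_singleton, Finset.mem_insert, Finset.mem_singleton, if_true, if_false,
    c1] at e0 e2 e3
  omega

theorem no77 (g : M24) : orderOf g ≠ 77 := by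
  intro h
  obtain ⟨c, c1, hc, hp⟩ := base g h
  have e0 := hc 1
  have e2 := hc 11
  have e3 := hc 7
  have w2 := v7 h (d := 11) (by norm_num) (by norm_num)
  have w3 := v11 h (d := 7) (by norm_num) (by norm_num)
  rw [show Nat.divisors 77 = {1, 7, 11, 77} by decide] at e0 e2 e3
  simp +decide only [Finset.sum_insert, Finset.sum_singleton, Finset.mem_insert, Finset.mem_singleton, if_true, if_false,
    c1] at e0 e2 e3
  omega

theorem no46 (g : M24) : orderOf g ≠ 46 := by
  intro h
  obtain ⟨c, c1, hc, hp⟩ := base g h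
  have e0 := hc 1
  have e2 := hc 23
  have e3 := hc 2
  have w2 := v2 h (d := 23) (by norm_num) (by norm_num)
  have w3 := v23 h (d := 2) (by norm_num) (by norm_num)
  rw [show Nat.divisors 46 = {1, 2, 23, 46} by decide] at e0 e2 e3
  simp +decide only [Finset.sum_insert, Finset.sum_singleton, Finset.mem_insert, Finset.mem_singleton, if_true, if_false,
    c1] at e0 e2 e3
  omega

theorem no69 (g : M24) : orderOf g ≠ 69 := by
  intro h
  obtain ⟨c, c1, hc, hp⟩ := base g h
  have e0 := hc 1
  have e2 := hc 23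
  have e3 := hc 3
  have w2 := v3 h (d := 23) (by norm_num) (by norm_num)
  have w3 := v23 h (d := 3) (by norm_num) (by norm_num)
  rw [show Nat.divisors 69 = {1, 3, 23, 69} by decide] at e0 e2 e3
  simp +decide only [Finset.sum_insert, Finset.sum_singleton, Finset.mem_insert, Finset.mem_singleton, if_true, if_false,
    c1] at e0 e2 e3
  omega

theorem no115 (g : M24) : orderOf g ≠ 115 := by
  intro h
  obtain ⟨c, c1, hc, hp⟩ := base g h
  have e0 := hc 1
  have e2 := hc 23
  have e3 := hc 5
  have w2 := v5 h (d := 23) (by norm_num) (by norm_num)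
  have w3 := v23 h (d := 5) (by norm_num) (by norm_num)
  rw [show Nat.divisors 115 = {1, 5, 23, 115} by decide] at e0 e2 e3
  simp +decide only [Finset.sum_insert, Finset.sum_singleton, Finset.mem_insert, Finset.mem_singleton, if_true, if_false,
    c1] at e0 e2 e3
  omega

theorem no161 (g : M24) : orderOf g ≠ 161 := by
  intro h
  obtain ⟨c, c1, hc, hp⟩ := base g h
  have e0 := hc 1
  have e2 := hc 23
  have e3 := hc 7
  have w2 := v7 h (d := 23) (by norm_num) (by norm_num)
  have w3 := v23 h (d := 7) (by norm_num) (by norm_num)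
  rw [show Nat.divisors 161 = {1, 7, 23, 161} by decide] at e0 e2 e3
  simp +decide only [Finset.sum_insert, Finset.sum_singleton, Finset.mem_insert, Finset.mem_singleton, if_true, if_false,
    c1] at e0 e2 e3
  omega

theorem no253 (g : M24) : orderOf g ≠ 253 := by
  intro h
  obtain ⟨c, c1, hc, hp⟩ := base g h
  have e0 := hc 1
  have e2 := hc 23
  have e3 := hc 11
  have w2 := v11 h (d := 23) (by norm_num) (by norm_num)
  have w3 := v23 h (d := 11) (by norm_num) (by norm_num)
  rw [show Nat.divisors 253 = {1, 11, 23, 253} by decide] at e0 e2 e3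
  simp +decide only [Finset.sum_insert, Finset.sum_singleton, Finset.mem_insert, Finset.mem_singleton, if_true, if_false,
    c1] at e0 e2 e3
  omega

end Cfsg.Agent.H19.Cyc
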