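import Cfsg.Agent.H180.MElTrans
import Cfsg.Agent.SporadicA.MathieuRecog

/-!
# `M₂₃` and `M₂₄` have no subgroups of index 46
-/

set_option autoImplicit false

namespace Cfsg.Agent.H19.Cyc

open Cfsg Equiv.Perm
open Cfsg.Agent.H866.InvolType (fx)
open Cfsg.Agent.H180.MEl

/-- a subgroup fixing a point, of order divisible by `5`, `7`, `11` but not by `23`, is a two-point stabiliser -/
theorem card_of_fix {X : Subgroup (Equiv.Perm GolayPt)} (hX : X ≤ M24) {p : GolayPt} (hp : ∀ g ∈ X, g p = p)
    (h5 : 5 ∣ Nat.card X) (h7 : 7 ∣ Nat.card X) (h11 : 11 ∣ Nat.card X) (h23 : ¬ 23 ∣ Nat.card X) :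
    Nat.card X = 443520 := by
  have hfix : ∀ g ∈ X, ∀ t ∈ ({p} : Finset GolayPt), g t = t := by
    intro g hg t ht
    rw [Finset.mem_singleton.1 ht]
    exact hp g hg
  obtain ⟨x7, hx7, o7⟩ := exists_order h7
  obtain ⟨x11, hx11, o11⟩ := exists_order h11
  have key : ∀ a, a ∉ ({p} : Finset GolayPt) → (orb X a).card = 1 ∨ (orb X a).card = 22 := by
    intro a ha
    have m7 := orb_mod (a := a) hx7 o7
    have m11 := orb_mod (a := a) hx11 o11
    have l7 := orb_fx_le hfix ha hx7
    have l11 := orb_fx_le hfix ha hx11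
    rw [fx7 (hX hx7) o7, Finset.card_singleton] at l7
    rw [fx11 (hX hx11) o11, Finset.card_singleton] at l11
    have hle := orb_le hfix ha
    rw [Finset.card_singleton] at hle
    have hpos := orb_pos X a
    have hne : (orb X a).card ≠ 23 := by
      intro h
      apply h23
      rw [← card_orb_mul X a, h]
      exact dvd_mul_right _ _
    unfold Nat.ModEq at m7 m11
    omega
  have hone : ∀ a, (orb X a).card = 1 → ∀ g ∈ X, g a = a := by
    intro a ha g hg
    obtain ⟨b, hb⟩ := Finset.card_eq_one.1 ha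
    have h1 : a ∈ orb X a := self_mem_orb X a
    have h2 : g a ∈ orb X a := mem_orb.2 ⟨g, hg, rfl⟩
    rw [hb, Finset.mem_singleton] at h1 h2
    rw [h2, ← h1]
  obtain ⟨b, hb, hb1⟩ : ∃ b, b ∉ ({p} : Finset GolayPt) ∧ (orb X b).card = 1 := by
    obtain ⟨a, ha⟩ := exists_notMem (T := {p}) (by rw [Finset.card_singleton]; norm_num)
    rcases key a ha with h1 | h1
    · exact ⟨a, ha, h1⟩
    · have hd := orb_disj hfix ha
      obtain ⟨b, hb⟩ := exists_notMem (T := orb X a ∪ {p}) (by
        rw [Finset.card_union_of_disjoint hd, h1, Finset.card_singleton]; norm_num)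
      rw [Finset.mem_union, not_or] at hb
      refine ⟨b, hb.2, ?_⟩
      rcases key b hb.2 with h2 | h2
      · exact h2
      · exfalso
        have hd2 : Disjoint (orb X a) (orb X b) := by
          rw [Finset.disjoint_left]
          intro q hq hq'
          obtain ⟨g, hg, hgq⟩ := mem_orb.1 hq
          obtain ⟨k, hk, hkq⟩ := mem_orb.1 hq'
          apply hb.1
          refine mem_orb.2 ⟨k⁻¹ * g, X.mul_mem (X.inv_mem hk) hg, ?_⟩
          show k⁻¹ (g a) = b
          rw [hgq, ← hkq]
          exact Equiv.symm_apply_apply k b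
        have h3 : (orb X a).card + (orb X b).card ≤ 24 := by
          rw [← Finset.card_union_of_disjoint hd2]
          refine (Finset.card_le_univ _).trans ?_
          simp
        omega
  refine m22 (T := insert b {p}) hX (by rw [Finset.card_insert_of_notMem hb, Finset.card_singleton]) ?_ h5 h7 h11
  intro g hg t ht
  rcases Finset.mem_insert.1 ht with rfl | ht
  · exact hone _ hb1 g hg
  · exact hfix g hg t ht

theorem no_card23 {X : Subgroup (Equiv.Perm GolayPt)} (hX : X ≤ M24) {p : GolayPt} (hp : ∀ g ∈ X, g p = p)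
    (hc : Nat.card X = 221760) : False := by
  have := card_of_fix hX hp (by rw [hc]; norm_num) (by rw [hc]; norm_num) (by rw [hc]; norm_num) (by rw [hc]; norm_num)
  omega

theorem no_card24 {X : Subgroup (Equiv.Perm GolayPt)} (hX : X ≤ M24) (hc : Nat.card X = 5322240) : False := by
  have hfix : ∀ g ∈ X, ∀ t ∈ (∅ : Finset GolayPt), g t = t := fun g _ t ht => absurd ht (Finset.notMem_empty t)
  obtain ⟨x7, hx7, o7⟩ := exists_order (p := 7) (X := X) (by rw [hc]; norm_num)
  obtain ⟨x11, hx11, o11⟩ := exists_order (p := 11) (X := X) (by rw [hc]; norm_num)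
  have key : ∀ a, (orb X a).card = 1 ∨ (orb X a).card = 2 ∨ (orb X a).card = 22 ∨ (orb X a).card = 24 := by
    intro a
    have m7 := orb_mod (a := a) hx7 o7
    have m11 := orb_mod (a := a) hx11 o11
    have l7 := orb_fx_le hfix (Finset.notMem_empty a) hx7
    have l11 := orb_fx_le hfix (Finset.notMem_empty a) hx11
    rw [fx7 (hX hx7) o7, Finset.card_empty] at l7
    rw [fx11 (hX hx11) o11, Finset.card_empty] at l11
    have hle := orb_le hfix (Finset.notMem_empty a)
    rw [Finset.card_empty] at hle
    have hpos := orb_pos X a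
    have hne : (orb X a).card ≠ 23 := by
      intro h
      have h1 := card_orb_mul X a
      rw [h, hc] at h1
      omega
    unfold Nat.ModEq at m7 m11
    omega
  obtain ⟨b, hb⟩ : ∃ b, (orb X b).card = 1 ∨ (orb X b).card = 2 ∨ (orb X b).card = 24 := by
    rcases key none with h1 | h1 | h1 | h1
    · exact ⟨none, Or.inl h1⟩
    · exact ⟨none, Or.inr (Or.inl h1)⟩
    · obtain ⟨b, hb⟩ := exists_notMem (T := orb X none) (by omega)
      refine ⟨b, ?_⟩
      have hd2 : Disjoint (orb X none) (orb X b) := by
        rw [Finset.disjoint_left]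
        intro q hq hq'
        obtain ⟨g, hg, hgq⟩ := mem_orb.1 hq
        obtain ⟨k, hk, hkq⟩ := mem_orb.1 hq'
        apply hb
        refine mem_orb.2 ⟨k⁻¹ * g, X.mul_mem (X.inv_mem hk) hg, ?_⟩
        show k⁻¹ (g none) = b
        rw [hgq, ← hkq]
        exact Equiv.symm_apply_apply k b
      have h3 : (orb X none).card + (orb X b).card ≤ 24 := by
        rw [← Finset.card_union_of_disjoint hd2]
        refine (Finset.card_le_univ _).trans ?_
        simp
      rcases key b with h2 | h2 | h2 | h2
      · exact Or.inl h2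
      · exact Or.inr (Or.inl h2)
      · omega
      · omega
    · exact ⟨none, Or.inr (Or.inr h1)⟩
  have h1 := card_orb_mul X b
  rw [hc] at h1
  have hS : Nat.card (St X b) = 5322240 ∨ Nat.card (St X b) = 2661120 ∨ Nat.card (St X b) = 221760 := by
    rcases hb with h2 | h2 | h2 <;> rw [h2] at h1 <;> omega
  have h2 := card_of_fix (X := St X b) (inf_le_left.trans hX) (p := b) (fun g hg => hg.2) (by
    rcases hS with h | h | h <;> rw [h] <;> norm_num) (by
    rcases hS with h | h | h <;> rw [h] <;> norm_num) (by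
    rcases hS with h | h | h <;> rw [h] <;> norm_num) (by
    rcases hS with h | h | h <;> rw [h] <;> norm_num)
  omega

theorem card_map_sub {L : Subgroup (Equiv.Perm GolayPt)} (H : Subgroup L) :
    Nat.card (H.map L.subtype) = Nat.card H :=
  (Nat.card_congr (H.equivMapOfInjective L.subtype L.subtype_injective).toEquiv).symm

theorem index_ne23 (H : Subgroup Spor.M23) : H.index ≠ 46 := by
  intro h
  have h1 := H.card_mul_index
  rw [h, Cfsg.Agent.SporadicA.MathieuRecog.card_M23] at h1
  refine no_card23 (X := H.map Spor.M23.subtype) (p := none) ?_ ?_ ?_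
  · rintro _ ⟨x, -, rfl⟩
    exact x.2.1
  · rintro _ ⟨x, -, rfl⟩
    exact x.2.2
  · rw [card_map_sub]
    omega

theorem index_ne24 (H : Subgroup M24) : H.index ≠ 46 := by
  intro h
  have h1 := H.card_mul_index
  rw [h, fact24] at h1
  refine no_card24 (X := H.map M24.subtype) ?_ ?_
  · rintro _ ⟨x, -, rfl⟩
    exact x.2
  · rw [card_map_sub]
    omega

end Cfsg.Agent.H19.Cyc
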