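import Cfsg.Agent.H954.OutDeg
import Cfsg.Agent.OddHalf.D4.Spor.M2223
import Cfsg.Agent.J4Type.FusionComm
import Cfsg.Agent.SporadicA.M11Facts2
import Cfsg.Agent.Cit.Eleven

/-!
# Small degrees of the Mathieu groups

`md_of_m22`: a simple group containing `M₂₂` has no irreducible characters of degrees `2, …, 14`;
`md_of_m11`: a simple group containing `M₁₁` has no irreducible characters of degrees `2, …, 7`.
-/

set_option autoImplicit false

namespace Cfsg.Agent.H19.Cyc

open Cfsg Subgroup
open Cfsg.Agent.H954.OutDeg (MD md_fused)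
open Cfsg.Agent.SporadicA.OctadFix
open Cfsg.Agent.J4Type.FusionComm (fixOct_comm)

open Cfsg.Agent.OddHalf.D4.Spor.M2223 Cfsg.Agent.OddHalf.D4.Spor.MathieuSyl Cfsg.Agent.Schreier.SylMTwentyTwo in
theorem isConj_inv22 (s t : Spor.M22) (hs : s * s = 1) (hs1 : s ≠ 1) (ht : t * t = 1) (ht1 : t ≠ 1) : IsConj s t := by
  obtain ⟨g, hg⟩ := one_class T_le idx22 le_rfl s hs hs1
  obtain ⟨k, hk⟩ := one_class T_le idx22 le_rfl t ht ht1
  exact (isConj_iff.2 ⟨g, hg⟩).symm.trans (isConj_iff.2 ⟨k, hk⟩)

open Cfsg.Agent.OddHalf.D4.Spor.M2223 Cfsg.Agent.OddHalf.D4.Spor.MathieuSyl Cfsg.Agent.Schreier.SylMTwentyTwo in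
theorem exists_oct22 : ∃ o ∈ octads, fixOct o ≤ Spor.M22 := by
  obtain ⟨o, ho, hK, -⟩ := exists_octad22 (t := ⟨zz, T_le zz_mem⟩) (Subtype.ext zz_sq)
    (fun h => zz_ne (congrArg Subtype.val h))
  exact ⟨o, ho, hK⟩

theorem md_of_m22 {X : Type*} [Group X] [Finite X] [IsSimpleGroup X] (π : Spor.M22 →* X) (hπ : Function.Injective π) :
    MD X 15 := by
  obtain ⟨o, ho, hK⟩ := exists_oct22
  have hc : Nat.card ((fixOct o).subgroupOf Spor.M22) = 16 := by
    rw [← card_fixOct ho]
    exact Nat.card_congr (Subgroup.subgroupOfEquivOfLe hK).toEquiv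
  have hfin : Finite ((fixOct o).subgroupOf Spor.M22) := Nat.finite_of_card_ne_zero (by rw [hc]; norm_num)
  have h := md_fused (X := X) π ((fixOct o).subgroupOf Spor.M22) (by
      intro a ha b hb
      exact Subtype.ext (fixOct_comm ho (Subgroup.mem_subgroupOf.1 ha) (Subgroup.mem_subgroupOf.1 hb))) (by
      intro x hx y hy hx1 hy1
      exact isConj_inv22 x y (Subtype.ext (fixOct_sq ho (Subgroup.mem_subgroupOf.1 hx))) hx1
        (Subtype.ext (fixOct_sq ho (Subgroup.mem_subgroupOf.1 hy))) hy1) (by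
      by_contra hno
      push Not at hno
      have h1 : (fixOct o).subgroupOf Spor.M22 = ⊥ := by
        rw [Subgroup.eq_bot_iff_forall]
        intro x hx
        exact hπ (by rw [hno x hx, map_one])
      rw [h1, Subgroup.card_bot] at hc
      norm_num at hc)
  rw [hc] at h
  exact h

theorem md_of_m11 {X : Type*} [Group X] [Finite X] [IsSimpleGroup X] (π : Spor.M11 →* X) (hπ : Function.Injective π) :
    MD X 8 := by
  have hiso : Spor.IsoM11 Spor.M11 := ⟨MulEquiv.refl _⟩
  have hfin : Finite Spor.M11 := Cfsg.Agent.Cit.Eleven.finite hiso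
  have hG := Cfsg.Agent.Cit.Eleven.isM11 hiso
  have hp : Fact (Nat.Prime 3) := ⟨Nat.prime_three⟩
  obtain ⟨P⟩ : Nonempty (Sylow 3 Spor.M11) := inferInstance
  have hc : Nat.card (P : Subgroup Spor.M11) = 9 := by
    rw [P.card_eq_multiplicity, hG.2, show (7920 : ℕ) = 3 ^ 2 * 880 by norm_num,
      Nat.factorization_mul (by norm_num) (by norm_num), Finsupp.add_apply, Nat.prime_three.factorization_pow,
      Finsupp.single_eq_same, Nat.factorization_eq_zero_of_not_dvd (by norm_num)]
    norm_num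
  have h := md_fused (X := X) π (P : Subgroup Spor.M11) (by
      intro a ha b hb
      have : IsMulCommutative (P : Subgroup Spor.M11) := by
        have := IsPGroup.isMulCommutative_of_card_eq_prime_sq (p := 3) (G := (P : Subgroup Spor.M11)) (by rw [hc]; norm_num)
        exact this
      exact congrArg Subtype.val (mul_comm' (⟨a, ha⟩ : (P : Subgroup Spor.M11)) ⟨b, hb⟩)) (by
      intro x hx y hy hx1 hy1
      exact Cfsg.Agent.SporadicA.M11Facts2.isConj_of_mem_sylow_three hG P hy hy1 hx hx1) (by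
      by_contra hno
      push Not at hno
      have h1 : (P : Subgroup Spor.M11) = ⊥ := by
        rw [Subgroup.eq_bot_iff_forall]
        intro x hx
        exact hπ (by rw [hno x hx, map_one])
      rw [h1, Subgroup.card_bot] at hc
      norm_num at hc)
  rw [hc] at h
  exact h

end Cfsg.Agent.H19.Cyc
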