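import Cfsg.Agent.H19.Cyc.M24OrdB
import Cfsg.Agent.H384.Cyc.Defs
import Cfsg.Agent.H419.Spor.M12
import Cfsg.Agent.H559.Row.Mathieu
import Cfsg.Agent.H180.KM11Cube
import Cfsg.Agent.S2060
import Cfsg.Agent.S2062
import Cfsg.Agent.S2063
import Cfsg.Agent.S2064

/-!
# Orders of the automorphisms of the Mathieu groups

`Mo M₁₁ 11`, `Mo M₁₂ 12`, `Mo M₂₂ 22`, `Mo M₂₃ 23`, `Mo M₂₄ 23`.
-/

set_option autoImplicit false

namespace Cfsg.Agent.H19.Cyc

open Cfsg Equiv Equiv.Perm
open scoped Pointwise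
open Cfsg.Agent.H384.Cyc (Mo)
open Cfsg.Agent.H866.InvolType (fx)
open Cfsg.Agent.H180.MEl (Fx mem_Fx fx2 fx3 fx5 fx7 fx11 fx23 fact24)

/-- `Mo` from the order of `Out` and the element orders -/
theorem mo_of_out' {T : Type*} [Group T] [Finite T] {m k : ℕ} (hk : Nat.card (Cfsg.Out T) = k) (hk0 : 0 < k)
    (h : ∀ x : T, orderOf x ≤ m) : Mo T (k * m) := by
  intro α
  have h1 : α ^ k ∈ Cfsg.Inn T := by
    have h2 : ((α : Cfsg.Out T)) ^ k = 1 := by
      rw [← hk]
      exact pow_card_eq_one'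
    rw [← QuotientGroup.eq_one_iff]
    exact h2
  obtain ⟨x, hx⟩ := h1
  have h2 : α ^ (k * orderOf x) = 1 := by
    rw [pow_mul, ← hx, ← map_pow, pow_orderOf_eq_one, map_one]
  exact (Nat.le_of_dvd (Nat.mul_pos hk0 (orderOf_pos x)) (orderOf_dvd_of_pow_eq_one h2)).trans
    (Nat.mul_le_mul_left _ (h x))

theorem mo_m11 : Mo Spor.M11 11 := by
  have : Finite Spor.M11 := Cfsg.Agent.Cit.Eleven.finite (⟨MulEquiv.refl _⟩ : Spor.IsoM11 Spor.M11)
  have h := mo_of_out' (T := Spor.M11) (m := 11) Cfsg.Agent.S2060.result (by norm_num) (by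
    intro x
    have h1 := Cfsg.Agent.H180.KM11.orders (⟨MulEquiv.refl _⟩ : Spor.IsoM11 Spor.M11) x
    simp only [List.mem_cons, List.not_mem_nil, or_false] at h1
    omega)
  simpa using h

theorem m23_le (x : Spor.M23) : orderOf x ≤ 23 := by
  have h := m24_le ⟨x.1, x.2.1⟩
  rwa [Subgroup.orderOf_mk, Subgroup.orderOf_coe] at h

theorem mo_m24 : Mo M24 23 := by
  have h := mo_of_out' (T := M24) (m := 23) Cfsg.Agent.S2064.result (by norm_num) m24_le
  simpa using h

theorem mo_m23 : Mo Spor.M23 23 := by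
  have h := mo_of_out' (T := Spor.M23) (m := 23) Cfsg.Agent.S2063.result (by norm_num) m23_le
  simpa using h

open Cfsg.Agent.SporadicA.OctadFix in
/-- no element of order `12` of `M₂₄` fixes two points -/
theorem no12 (g : M24) (hg : 2 ≤ fx (g : Perm GolayPt)) : orderOf g ≠ 12 := by
  intro h
  obtain ⟨c, c1, hc, hp⟩ := base g h
  have e1 := hc 1
  have e2 := hc 6
  have e3 := hc 4
  have e4 := hc 3
  have w2 := v2 h (d := 6) (by norm_num) (by norm_num)
  have w3 := v3 h (d := 4) (by norm_num) (by norm_num)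
  rw [show Nat.divisors 12 = {1, 2, 3, 4, 6, 12} by decide] at e1 e2 e3 e4 hp
  simp +decide only [Finset.sum_insert, Finset.sum_singleton, Finset.mem_insert, Finset.mem_singleton, if_true, if_false,
    c1] at e1 e2 e3 e4 hp
  rw [pow_one] at e1
  have h6 : fx ((g : Perm GolayPt) ^ 6) = 8 := by omega
  have h3 : fx ((g : Perm GolayPt) ^ 3) = 8 := by omega
  have o6 : orderOf ((g : Perm GolayPt) ^ 6) = 2 := ord_pow h (by norm_num) (by norm_num)
  obtain ⟨o, ho, hfo⟩ : ∃ o ∈ octads, ∀ p, ((g : Perm GolayPt) ^ 6) p = p ↔ p ∈ o := by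
    rcases Cfsg.Agent.H865.Invol.main.1 _ (mem_pow g 6) o6 with h5 | h5
    · refine ⟨_, h5, fun p => ?_⟩
      rw [Finset.mem_filter]
      exact (and_iff_right (Finset.mem_univ _)).symm
    · exfalso
      have h6' : fx ((g : Perm GolayPt) ^ 6) = 0 := by
        unfold fx
        rw [Finset.card_eq_zero, Finset.filter_eq_empty_iff]
        intro p _
        exact h5 p
      omega
  have hcard8 : o.card = 8 := ho.2
  have hsub : ∀ x, ((g : Perm GolayPt) ^ 3) x = x → x ∈ o := by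
    intro x hx
    rw [← hfo, show 6 = 3 + 3 by norm_num, pow_add, Perm.mul_apply, hx, hx]
  have h5 : (Finset.univ.filter fun p => ((g : Perm GolayPt) ^ 3) p = p) = o := by
    apply Finset.eq_of_subset_of_card_le
    · intro x hx
      exact hsub x (Finset.mem_filter.1 hx).2
    · rw [hcard8]
      exact h3.ge
  have h7 : ((g : Perm GolayPt) ^ 3) ∈ fixOct o := by
    rw [mem_fixOct]
    refine ⟨mem_pow g 3, fun x hx => ?_⟩
    rw [← h5, Finset.mem_filter] at hx
    exact hx.2
  have h8 := fixOct_sq ho h7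
  rw [← pow_add] at h8
  have h9 : orderOf ((g : Perm GolayPt) ^ 6) = 1 := by
    rw [show (3 + 3 : ℕ) = 6 by norm_num] at h8
    rw [h8, orderOf_one]
  omega

theorem no14 (g : M24) (hg : 2 ≤ fx (g : Perm GolayPt)) : orderOf g ≠ 14 := by
  intro h
  obtain ⟨c, c1, hc, hp⟩ := base g h
  have e1 := hc 1
  have e2 := hc 7
  have e3 := hc 2
  have w2 := v2 h (d := 7) (by norm_num) (by norm_num)
  have w3 := v7 h (d := 2) (by norm_num) (by norm_num)
  rw [show Nat.divisors 14 = {1, 2, 7, 14} by decide] at e1 e2 e3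
  simp +decide only [Finset.sum_insert, Finset.sum_singleton, Finset.mem_insert, Finset.mem_singleton, if_true, if_false,
    c1] at e1 e2 e3
  rw [pow_one] at e1
  omega

theorem no15 (g : M24) (hg : 2 ≤ fx (g : Perm GolayPt)) : orderOf g ≠ 15 := by
  intro h
  obtain ⟨c, c1, hc, hp⟩ := base g h
  have e1 := hc 1
  have e2 := hc 5
  have e3 := hc 3
  have w2 := v3 h (d := 5) (by norm_num) (by norm_num)
  have w3 := v5 h (d := 3) (by norm_num) (by norm_num)
  rw [show Nat.divisors 15 = {1, 3, 5, 15} by decide] at e1 e2 e3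
  simp +decide only [Finset.sum_insert, Finset.sum_singleton, Finset.mem_insert, Finset.mem_singleton, if_true, if_false,
    c1] at e1 e2 e3
  rw [pow_one] at e1
  omega

theorem no21 (g : M24) (hg : 2 ≤ fx (g : Perm GolayPt)) : orderOf g ≠ 21 := by
  intro h
  obtain ⟨c, c1, hc, hp⟩ := base g h
  have e1 := hc 1
  have e2 := hc 7
  have e3 := hc 3
  have w2 := v3 h (d := 7) (by norm_num) (by norm_num)
  have w3 := v7 h (d := 3) (by norm_num) (by norm_num)
  rw [show Nat.divisors 21 = {1, 3, 7, 21} by decide] at e1 e2 e3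
  simp +decide only [Finset.sum_insert, Finset.sum_singleton, Finset.mem_insert, Finset.mem_singleton, if_true, if_false,
    c1] at e1 e2 e3
  rw [pow_one] at e1
  omega

/-- element orders of `M₂₂` -/
theorem m22_le (x : Spor.M22) : orderOf x ≤ 11 := by
  have hx : 2 ≤ fx ((⟨x.1, x.2.1.1⟩ : M24) : Perm GolayPt) := by
    have h1 : ({none, some 0} : Finset GolayPt) ⊆ Finset.univ.filter fun p => x.1 p = p := by
      intro p hp
      rw [Finset.mem_insert, Finset.mem_singleton] at hp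
      rw [Finset.mem_filter]
      refine ⟨Finset.mem_univ _, ?_⟩
      rcases hp with rfl | rfl
      · exact x.2.1.2
      · exact x.2.2
    have h2 := Finset.card_le_card h1
    rw [Finset.card_pair (by simp)] at h2
    exact h2
  have h := m24_orders ⟨x.1, x.2.1.1⟩
  have n12 := no12 _ hx
  have n14 := no14 _ hx
  have n15 := no15 _ hx
  have n21 := no21 _ hx
  have n23 : orderOf (⟨x.1, x.2.1.1⟩ : M24) ≠ 23 := by
    intro h1
    have h2 := fx23 x.2.1.1 (by rw [← h1, Subgroup.orderOf_mk])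
    change 2 ≤ fx x.1 at hx
    omega
  rw [Subgroup.orderOf_mk, Subgroup.orderOf_coe] at h n12 n14 n15 n21 n23
  simp only [List.mem_cons, List.not_mem_nil, or_false] at h
  omega

theorem mo_m22 : Mo Spor.M22 22 :=
  mo_of_out' (T := Spor.M22) (m := 11) Cfsg.Agent.S2062.result (by norm_num) m22_le

/-! ### `M₁₂` -/

local notation "D" => Spor.squareDodecad

theorem m12_card : Nat.card Spor.M12 = 95040 := Cfsg.Agent.MTwelveType.SylowModel.card_M12

/-- an automorphism of `M₁₂` is induced by an element of `M₂₄` whose square is in `M₁₂` -/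
theorem exists_tau (α : MulAut Spor.M12) : ∃ τ : M24, (τ : Perm GolayPt) ^ 2 ∈ Spor.M12 ∧
    (Odd (orderOf τ) → (τ : Perm GolayPt) ∈ Spor.M12) ∧
    ∀ g : Spor.M12, ((α g : Spor.M12) : Perm GolayPt) = τ * g * (τ : Perm GolayPt)⁻¹ := by
  have hmem : ∀ {m : Perm GolayPt}, m ∈ Spor.M12 → ∀ p, m p ∈ D ↔ p ∈ D := fun hm p =>
    Cfsg.Agent.H419.Spor.M12.mem_iff hm.2 p
  rcases Cfsg.Agent.H419.Spor.M12.mem_or α with ⟨m, rfl⟩ | ⟨m, rfl⟩
  · refine ⟨⟨m.1, m.2.1⟩, Spor.M12.pow_mem m.2 2, fun _ => m.2, fun g => rfl⟩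
  · have hI := Cfsg.Agent.H419.Spor.M12.I_mem
    have h1 : ∀ p : GolayPt, projInv p ∈ D ↔ p ∉ D := by decide +kernel
    have hsq : (m.1 * projInv) ^ 2 ∈ Spor.M12 := by
      refine Cfsg.Agent.H419.Spor.M12.mem12 (M24.pow_mem (M24.mul_mem m.2.1 hI) 2) fun p hp => ?_
      rw [pow_two, Perm.mul_apply, Perm.mul_apply, Perm.mul_apply, hmem m.2, h1, hmem m.2, h1, not_not]
      exact hp
    refine ⟨⟨m.1 * projInv, M24.mul_mem m.2.1 hI⟩, hsq, ?_, ?_⟩
    · intro hodd
      exfalso
      rw [Subgroup.orderOf_mk] at hodd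
      obtain ⟨k, hk⟩ := hodd
      have h2 : ((m.1 * projInv) ^ 2) ^ k * (m.1 * projInv) = 1 := by
        rw [← pow_mul, ← pow_succ, ← hk, pow_orderOf_eq_one]
      have h3 : m.1 * projInv ∈ Spor.M12 := by
        have h4 := Spor.M12.inv_mem (Spor.M12.pow_mem hsq k)
        rw [inv_eq_of_mul_eq_one_right h2] at h4
        exact h4
      have h4 : ∃ p : GolayPt, p ∈ D := ⟨some 0, by decide +kernel⟩
      obtain ⟨p, hp⟩ := h4
      have h5 := (hmem h3 p).2 hp
      rw [Perm.mul_apply, hmem m.2, h1] at h5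
      exact h5 hp
    · intro g
      show m.1 * (projInv * g.1 * projInv⁻¹) * m.1⁻¹ = m.1 * projInv * g.1 * (m.1 * projInv)⁻¹
      rw [mul_inv_rev]
      simp only [mul_assoc]

theorem mo_m12 : Mo Spor.M12 12 := by
  have hfin : Finite Spor.M12 := Nat.finite_of_card_ne_zero (by rw [m12_card]; norm_num)
  intro α
  obtain ⟨τ, h2, hodd, hτ⟩ := exists_tau α
  have hpow : ∀ n : ℕ, ∀ g : Spor.M12, (((α ^ n) g : Spor.M12) : Perm GolayPt) =
      (τ : Perm GolayPt) ^ n * g * ((τ : Perm GolayPt) ^ n)⁻¹ := by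
    intro n
    induction n with
    | zero => intro g; simp
    | succ n ih =>
      intro g
      rw [pow_succ', MulAut.mul_apply, hτ, ih, pow_succ', mul_inv_rev]
      simp only [mul_assoc]
  have hd : orderOf α ∣ orderOf τ := by
    rw [orderOf_dvd_iff_pow_eq_one]
    ext g
    have h3 : (τ : Perm GolayPt) ^ orderOf τ = 1 := by
      rw [← Subgroup.coe_pow, pow_orderOf_eq_one]
      rfl
    rw [hpow, h3]
    simp
  refine (Nat.le_of_dvd (orderOf_pos τ) hd).trans ?_
  have h := m24_orders τ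
  have hsq : orderOf ((⟨(τ : Perm GolayPt) ^ 2, h2⟩ : Spor.M12)) ∣ 95040 := by
    rw [← m12_card]
    exact orderOf_dvd_natCard _
  rw [Subgroup.orderOf_mk] at hsq
  have hτ2 : (τ : Perm GolayPt) ^ 2 = ((τ ^ 2 : M24) : Perm GolayPt) := rfl
  rw [hτ2, Subgroup.orderOf_coe] at hsq
  simp only [List.mem_cons, List.not_mem_nil, or_false] at h
  rcases h with h | h | h | h | h | h | h | h | h | h | h | h | h | h | h
  all_goals first
    | omega
    | skip
  · -- 14
    exfalso
    have h3 : orderOf (τ ^ 2) = 7 := by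
      rw [orderOf_pow_of_dvd (by norm_num) (by rw [h]; norm_num), h]
    rw [h3] at hsq
    norm_num at hsq
  · -- 15
    exfalso
    have h3 := hodd (by rw [h]; decide)
    refine Cfsg.Agent.H559.Row.m12_fifteen ⟨_, h3⟩ ?_
    rw [Subgroup.orderOf_mk, Subgroup.orderOf_coe, h]
  · -- 21
    exfalso
    have h3 : orderOf (τ ^ 2) = 21 := by
      rw [Nat.Coprime.orderOf_pow (by rw [h]; norm_num), h]
    rw [h3] at hsq
    norm_num at hsq
  · -- 23
    exfalso
    have h3 : orderOf (τ ^ 2) = 23 := by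
      rw [Nat.Coprime.orderOf_pow (by rw [h]; norm_num), h]
    rw [h3] at hsq
    norm_num at hsq

end Cfsg.Agent.H19.Cyc
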