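import Cfsg.Agent.H19.Cyc.MatMo
import Cfsg.Agent.NotCT.Orders

/-!
# `Ord` for the Mathieu groups
-/

set_option autoImplicit false

namespace Cfsg.Agent.H19.Cyc

open Cfsg
open Cfsg.Agent.H384.Cyc (Mo)

theorem ord_m11 {T : Type*} [Group T] (h : Spor.IsoM11 T) : H384.Cyc.Ord T := by
  obtain ⟨e⟩ := h
  refine H384.Cyc.Ord.congr ⟨11, mo_m11, ?_⟩ e.symm
  rw [Cfsg.Agent.NotCT.Orders.m11 ⟨MulEquiv.refl _⟩]
  norm_num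

theorem ord_m12 {T : Type*} [Group T] (h : Spor.IsoM12 T) : H384.Cyc.Ord T := by
  obtain ⟨e⟩ := h
  refine H384.Cyc.Ord.congr ⟨12, mo_m12, ?_⟩ e.symm
  rw [m12_card]
  norm_num

theorem ord_m22 {T : Type*} [Group T] (h : Spor.IsoM22 T) : H384.Cyc.Ord T := by
  obtain ⟨e⟩ := h
  refine H384.Cyc.Ord.congr ⟨22, mo_m22, ?_⟩ e.symm
  rw [Cfsg.Agent.NotCT.Orders.m22 ⟨MulEquiv.refl _⟩]
  norm_num

theorem ord_m23 {T : Type*} [Group T] (h : Spor.IsoM23 T) : H384.Cyc.Ord T := by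
  obtain ⟨e⟩ := h
  refine H384.Cyc.Ord.congr ⟨23, mo_m23, ?_⟩ e.symm
  rw [Cfsg.Agent.NotCT.Orders.m23 ⟨MulEquiv.refl _⟩]
  norm_num

theorem ord_m24 {T : Type*} [Group T] (h : Spor.IsoM24 T) : H384.Cyc.Ord T := by
  obtain ⟨e⟩ := h
  refine H384.Cyc.Ord.congr ⟨23, mo_m24, ?_⟩ e.symm
  rw [Cfsg.Agent.NotCT.Orders.m24 ⟨MulEquiv.refl _⟩]
  norm_num

end Cfsg.Agent.H19.Cyc
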