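import Cfsg.Agent.H482.TwoCyc.Row
import Cfsg.Agent.H19.Cyc.MatMo
import Cfsg.Agent.H19.Cyc.MatMd
import Cfsg.Agent.H19.Cyc.MatIdx

/-!
# Elements with two cycles: the Mathieu groups (S3507)

`row_m11`, `row_m12`, `row_m22`, `row_m23`, `row_m24`.
-/

set_option autoImplicit false

namespace Cfsg.Agent.H19.Cyc

open MulAction Cfsg.Agent.H384.Cyc Cfsg.Agent.H482.TwoCyc
open Cfsg Cfsg.Agent.PermutationGroups.MultFree Cfsg.Agent.PermutationGroups.IrrSum
  Cfsg.Agent.PermutationGroups.Subdegree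
open Cfsg.Agent.Characters.Core (isCharacter_comp isIrr_isCharacter isCharacter_one classInner_isNat
  classInner_irr_self)

universe u v

/-- rank at least four: the degree is at least `3 δ + 1` -/
theorem le_card_of_rank {G : Type u} {Ω : Type v} [Group G] [MulAction G Ω] {T : Subgroup G} {g : G} (h : TC G Ω T g)
    {δ : ℕ} (hδ : H954.OutDeg.MD T δ) (hcon : ¬ rk G Ω ≤ 3) : 3 * δ + 1 ≤ Nat.card Ω := by
  classical
  have := h.finG
  have := h.finΩ
  have := h.norm
  have := h.simple
  have := h.prim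
  have := Fintype.ofFinite G
  have := Fintype.ofFinite Ω
  have := Fintype.ofFinite T
  have := Fintype.ofFinite (Subgroup.zpowers g)
  obtain ⟨htr, -⟩ := exists_index h
  have h2 := card_le h.two
  have hne : Nonempty Ω := by
    by_contra hcon
    rw [not_nonempty_iff] at hcon
    have := h.two
    unfold Two at this
    rw [Nat.card_of_isEmpty] at this
    omega
  obtain ⟨a⟩ := hne
  obtain ⟨m, hm1, hm2, hm3, hm4⟩ := exists_decomp' (G := G) a
  obtain ⟨c, hc⟩ := exists_mult (Subgroup.zpowers g)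
  obtain ⟨t, ht⟩ := exists_mult T
  have hoC := card_orbits (Subgroup.zpowers g) hc hm1
  have hoT := card_orbits T ht hm1
  set one : IrrCharacter G := ⟨_, isIrr_one⟩ with hone
  have hmem : one ∈ m.support := by
    rw [Finsupp.mem_support_iff, hm2]
    exact one_ne_zero
  obtain ⟨S, hS⟩ : ∃ S, S = m.support.erase one := ⟨_, rfl⟩
  have hsplit : ∀ f : IrrCharacter G → ℕ, ∑ ψ ∈ m.support, f ψ = f one + ∑ ψ ∈ S, f ψ := by
    intro f
    rw [hS]
    exact (Finset.add_sum_erase _ f hmem).symm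
  have hself : ∀ (K : Subgroup G) [Fintype K] (r : IrrCharacter G → ℕ),
      (∀ ψ : IrrCharacter G, classInner (fun k : K => (ψ : G → ℂ) k) (fun _ => 1) = r ψ) →
      r one = 1 := by
    intro K _ r hr
    have h5 := hr one
    have h6 : classInner (fun k : K => (one : G → ℂ) k) (fun _ => 1) = 1 := classInner_irr_self (G := K) isIrr_one
    rw [h6] at h5
    exact_mod_cast h5.symm
  have hc1 := hself _ c hc
  have ht1 := hself _ t ht
  rw [h.two, hsplit, hm2, hc1] at hoC
  have hT1 : Nat.card (orbitRel.Quotient T Ω) = 1 := by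
    rw [Nat.card_eq_one_iff_unique]
    refine ⟨⟨fun x y => ?_⟩, ⟨Quotient.mk'' a⟩⟩
    obtain ⟨x, rfl⟩ := Quotient.exists_rep x
    obtain ⟨y, rfl⟩ := Quotient.exists_rep y
    obtain ⟨s, hs⟩ := exists_smul_eq T y x
    exact Quotient.sound ⟨s, hs⟩
  rw [hT1, hsplit, hm2, ht1] at hoT
  have hoT' : ∑ ψ ∈ S, m ψ * t ψ = 0 := by omega
  rw [Finset.sum_eq_zero_iff] at hoT'
  have hrk : rk G Ω = Nat.card (orbitRel.Quotient (stabilizer G a) Ω) := Cfsg.Agent.S0669.result a
  rw [hrk, ← hm3, hsplit, hm2] at hcon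
  have key := three_le_sum S m c (by omega) (by omega)
  rw [hsplit, hm2] at hm4
  have hd1 : 1 ≤ charDegree (one : G → ℂ) :=
    Cfsg.Agent.Blocks.Basic.charDegree_pos (isIrr_one (G := G))
  have hsum : (∑ ψ ∈ S, m ψ) * δ ≤ ∑ ψ ∈ S, m ψ * charDegree (ψ : G → ℂ) := by
    rw [Finset.sum_mul]
    refine Finset.sum_le_sum fun ψ hψ => Nat.mul_le_mul_left _ ?_
    refine le_charDegree T h.nonab hδ ψ ?_
    have h5 := hoT' ψ hψ
    have h6 : m ψ ≠ 0 := by
      rw [hS] at hψ
      exact Finsupp.mem_support_iff.mp (Finset.mem_of_mem_erase hψ)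
    have h7 : t ψ = 0 := by
      rcases Nat.mul_eq_zero.mp h5 with h8 | h8
      · exact absurd h8 h6
      · exact h8
    rw [ht, h7, Nat.cast_zero]
  have h5 : 3 * δ ≤ (∑ ψ ∈ S, m ψ) * δ := Nat.mul_le_mul_right _ key
  omega

/-- the boundary case `2 m = 3 δ + 1`: there is a subgroup of this index -/
theorem row_boundary {G : Type u} {Ω : Type v} [Group G] [MulAction G Ω] {T : Subgroup G} {g : G} (h : TC G Ω T g)
    {m δ : ℕ} (hm : Mo T m) (hδ : H954.OutDeg.MD T δ) (hle : 2 * m ≤ 3 * δ + 1)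
    (hi : ∀ H : Subgroup T, H.index ≠ 3 * δ + 1) : rk G Ω ≤ 3 := by
  by_contra hcon
  have := h.finG
  have := h.finΩ
  have := h.norm
  have h1 := le_card_of_rank h hδ hcon
  have h2 := card_le h.two
  have h3 := orderOf_le h.cent hm g
  have hne : Nonempty Ω := by
    by_contra hcon
    rw [not_nonempty_iff] at hcon
    have := h.two
    unfold Two at this
    rw [Nat.card_of_isEmpty] at this
    omega
  obtain ⟨a⟩ := hne
  obtain ⟨-, h4⟩ := exists_index h
  exact hi _ ((h4 a).1.trans (by omega))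

theorem fin_of_iso {T : Type*} {M : Type*} [Group T] [Group M] [Finite T] (e : T ≃* M) : Finite M :=
  Finite.of_equiv T e.toEquiv

theorem row_m11 : Row3.{u, v} (fun T _ => Spor.IsoM11 T) := by
  intro G Ω _ _ T g h hT
  have := h.finG
  have := h.simple
  obtain ⟨e⟩ := hT
  have hf := fin_of_iso e
  have hs : IsSimpleGroup Spor.M11 := (MulEquiv.isSimpleGroup_congr e).1 inferInstance
  have hS : SmC Spor.M11 := ⟨11, 8, mo_m11, md_of_m11 (MonoidHom.id _) Function.injective_id, by norm_num⟩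
  exact row_smC G Ω T g h (hS.congr e.symm)

theorem row_m12 : Row3.{u, v} (fun T _ => Spor.IsoM12 T) := by
  intro G Ω _ _ T g h hT
  have := h.finG
  have := h.simple
  obtain ⟨e⟩ := hT
  have hf := fin_of_iso e
  have hs : IsSimpleGroup Spor.M12 := (MulEquiv.isSimpleGroup_congr e).1 inferInstance
  have hS : SmC Spor.M12 := ⟨12, 8, mo_m12, md_of_m11 (Subgroup.inclusion (show Spor.M11 ≤ Spor.M12 from inf_le_left))
    (Subgroup.inclusion_injective _), by norm_num⟩
  exact row_smC G Ω T g h (hS.congr e.symm)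

theorem row_m22 : Row3.{u, v} (fun T _ => Spor.IsoM22 T) := by
  intro G Ω _ _ T g h hT
  have := h.finG
  have := h.simple
  obtain ⟨e⟩ := hT
  have hf := fin_of_iso e
  have hs : IsSimpleGroup Spor.M22 := (MulEquiv.isSimpleGroup_congr e).1 inferInstance
  have hS : SmC Spor.M22 := ⟨22, 15, mo_m22, md_of_m22 (MonoidHom.id _) Function.injective_id, by norm_num⟩
  exact row_smC G Ω T g h (hS.congr e.symm)

theorem index_congr {T : Type*} {M : Type*} [Group T] [Group M] (e : T ≃* M) {n : ℕ}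
    (h : ∀ H : Subgroup M, H.index ≠ n) (H : Subgroup T) : H.index ≠ n := by
  intro h1
  apply h (H.comap e.symm.toMonoidHom)
  rwa [Subgroup.index_comap_of_surjective _ e.symm.surjective]

theorem row_m23 : Row3.{u, v} (fun T _ => Spor.IsoM23 T) := by
  intro G Ω _ _ T g h hT
  have := h.finG
  have := h.simple
  obtain ⟨e⟩ := hT
  have hf := fin_of_iso e
  have hs : IsSimpleGroup Spor.M23 := (MulEquiv.isSimpleGroup_congr e).1 inferInstance
  have hδ : H954.OutDeg.MD Spor.M23 15 := md_of_m22 (Subgroup.inclusion (show Spor.M22 ≤ Spor.M23 from inf_le_left))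
    (Subgroup.inclusion_injective _)
  exact row_boundary h (m := 23) (δ := 15) (mo_m23.congr e.symm) (hδ.congr e.symm) (by norm_num)
    (index_congr e index_ne23)

theorem row_m24 : Row3.{u, v} (fun T _ => Spor.IsoM24 T) := by
  intro G Ω _ _ T g h hT
  have := h.finG
  have := h.simple
  obtain ⟨e⟩ := hT
  have hf := fin_of_iso e
  have hs : IsSimpleGroup M24 := (MulEquiv.isSimpleGroup_congr e).1 inferInstance
  have hδ : H954.OutDeg.MD M24 15 := md_of_m22
    (Subgroup.inclusion (show Spor.M22 ≤ M24 from inf_le_left.trans inf_le_left)) (Subgroup.inclusion_injective _)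
  exact row_boundary h (m := 23) (δ := 15) (mo_m24.congr e.symm) (hδ.congr e.symm) (by norm_num)
    (index_congr e index_ne24)

end Cfsg.Agent.H19.Cyc
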